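import Mathlib

/-!
# Arithmetic for simple groups of order `3 p^a q^b` and `4 p^a q^b`
-/

set_option autoImplicit false
set_option linter.style.haveILetI false
set_option linter.unusedSectionVars false

namespace CfsgLib.CharsMore.SmallTriple

open Finset

/-- A prime power next to a power of two has exponent one, apart from `9`. -/
theorem exponent_eq_one {q y x : ℕ} (hq : q.Prime) (hq5 : 5 ≤ q) (hy : 1 ≤ y)
    (h : q ^ y + 1 = 2 ^ x ∨ q ^ y = 2 ^ x + 1) : y = 1 := by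
  have hqodd : Odd q := hq.odd_of_ne_two (by omega)
  rcases Nat.even_or_odd y with ⟨k, rfl⟩ | hyo
  · -- squares
    exfalso
    have hk : 1 ≤ k := by omega
    obtain ⟨s, hs⟩ : ∃ s, s = q ^ k := ⟨_, rfl⟩
    have hs5 : 5 ≤ s := hs ▸ hq5.trans (Nat.le_self_pow (by omega) q)
    have hsodd : Odd s := hs ▸ hqodd.pow
    rw [pow_add, ← hs] at h
    rcases h with h | h
    · obtain ⟨t, ht⟩ := hsodd
      have h4 : (s * s + 1) % 4 = 2 := by
        rw [ht, show (2 * t + 1) * (2 * t + 1) + 1 = 4 * (t * t + t) + 2 by ring]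
        omega
      have hx : 2 ≤ x := by
        by_contra hx
        have : 2 ^ x ≤ 2 ^ 1 := Nat.pow_le_pow_right (by norm_num) (by omega)
        nlinarith
      obtain ⟨c, rfl⟩ : ∃ c, x = 2 + c := ⟨x - 2, by omega⟩
      rw [h, pow_add] at h4
      omega
    · obtain ⟨t, rfl⟩ : ∃ t, s = t + 1 := ⟨s - 1, by omega⟩
      have h1 : 2 ^ x = t * (t + 2) := by nlinarith
      obtain ⟨a, -, ha⟩ := (Nat.dvd_prime_pow Nat.prime_two).1 (h1 ▸ dvd_mul_right t (t + 2))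
      obtain ⟨b, -, hb⟩ := (Nat.dvd_prime_pow Nat.prime_two).1 (h1 ▸ dvd_mul_left (t + 2) t)
      rcases Nat.lt_or_ge a 2 with ha2 | ha2
      · interval_cases a <;> omega
      · rcases Nat.lt_or_ge b 2 with hb2 | hb2
        · interval_cases b <;> omega
        · obtain ⟨c, rfl⟩ : ∃ c, a = 2 + c := ⟨a - 2, by omega⟩
          obtain ⟨d, rfl⟩ : ∃ d, b = 2 + d := ⟨b - 2, by omega⟩
          rw [pow_add] at ha hb
          omega
  · -- odd exponents
    obtain ⟨e, he, heq⟩ : ∃ e : ℤ, (e = 1 ∨ e = -1) ∧ (q : ℤ) ^ y - e ^ y = 2 ^ x := by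
      rcases h with h | h
      · refine ⟨-1, Or.inr rfl, ?_⟩
        rw [hyo.neg_one_pow, sub_neg_eq_add]
        exact_mod_cast h
      · refine ⟨1, Or.inl rfl, ?_⟩
        rw [one_pow, show (q : ℤ) ^ y = 2 ^ x + 1 by exact_mod_cast h, add_sub_cancel_right]
    set S := ∑ i ∈ range y, (q : ℤ) ^ i * e ^ (y - 1 - i) with hS
    have hgeom : S * ((q : ℤ) - e) = 2 ^ x := (geom_sum₂_mul _ _ _).trans heq
    have hSodd : Odd S := by
      rw [← ZMod.intCast_eq_one_iff_odd, hS]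
      push_cast
      have h1 : ((q : ℤ) : ZMod 2) = 1 :=
        ZMod.intCast_eq_one_iff_odd.2 (by exact_mod_cast hqodd)
      have h2 : ((e : ℤ) : ZMod 2) = 1 :=
        ZMod.intCast_eq_one_iff_odd.2 (by rcases he with rfl | rfl <;> decide)
      push_cast at h1 h2
      simp only [h1, h2, one_pow, mul_one, sum_const, card_range, nsmul_eq_mul]
      exact (ZMod.natCast_eq_one_iff_odd).2 hyo
    have hpos : (0 : ℤ) < (q : ℤ) - e := by rcases he with rfl | rfl <;> omega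
    have hSpos : 0 < S := by
      have h2 : (0 : ℤ) < 2 ^ x := by positivity
      rw [← hgeom] at h2
      exact pos_of_mul_pos_left h2 hpos.le
    have hdvd : S.natAbs ∣ 2 ^ x := by
      have := Int.natAbs_dvd_natAbs.2 (hgeom ▸ dvd_mul_right S _)
      simpa [Int.natAbs_pow] using this
    have hS1 : S = 1 := by
      obtain ⟨a, -, ha⟩ := (Nat.dvd_prime_pow Nat.prime_two).1 hdvd
      rcases a with _ | a
      · rw [pow_zero] at ha; omega
      · exact absurd ((Int.natAbs_odd.2 hSodd)) (by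
          rw [ha, Nat.not_odd_iff_even]; exact (Nat.even_pow.2 ⟨even_two, by omega⟩))
    rw [hS1, one_mul] at hgeom
    have hpw : (q : ℤ) ^ y = q := by
      have hey : e ^ y = e := by rcases he with rfl | rfl <;> simp [hyo.neg_one_pow]
      linarith [hey]
    exact Nat.pow_right_injective hq.two_le (show q ^ y = q ^ 1 by rw [pow_one]; exact_mod_cast hpw)

/-- Exponents of a number built from `3` and `r`. -/
def Smooth (r n : ℕ) : Prop := ∃ c d : ℕ, n = 3 ^ c * r ^ d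

theorem smooth_of_dvd {r n i j : ℕ} (hr : r.Prime) (h : n ∣ 3 ^ i * r ^ j) : Smooth r n := by
  obtain ⟨a, b, ha, hb, rfl⟩ := exists_dvd_and_dvd_of_dvd_mul h
  obtain ⟨c, -, rfl⟩ := (Nat.dvd_prime_pow Nat.prime_three).1 ha
  obtain ⟨d, -, rfl⟩ := (Nat.dvd_prime_pow hr).1 hb
  exact ⟨c, d, rfl⟩

/-- The two shapes of a signed degree. -/
def TypeB (r : ℕ) (y : ℤ) : Prop :=
  ∃ a : ℕ, 1 ≤ a ∧ y = (-3) ^ a ∧ (2 ≤ a → (r : ℤ) ∣ (y + 1))

/-- The second shape. -/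
def TypeC (r : ℕ) (y : ℤ) : Prop :=
  ∃ b c : ℕ, 1 ≤ b ∧ 1 ≤ c ∧ y.natAbs = r ^ b ∧ (y + 1).natAbs = 2 * 3 ^ c

theorem natAbs_three_pow_eq {y : ℤ} {a : ℕ} (hy : y % 4 = 1) (h : y.natAbs = 3 ^ a) :
    y = (-3) ^ a := by
  have h9 : ∀ k : ℕ, (9 : ℤ) ^ k % 4 = 1 := fun k => by
    induction k with
    | zero => norm_num
    | succ k ih => rw [pow_succ]; omega
  rcases Int.natAbs_eq y with e | e <;> rw [h] at e <;> push_cast at e <;>
    rcases Nat.even_or_odd' a with ⟨k, rfl | rfl⟩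
  · rw [Even.neg_pow ⟨k, by omega⟩]; exact e
  · exfalso
    rw [e, pow_succ, pow_mul, show (3 : ℤ) ^ 2 = 9 by norm_num] at hy
    have := h9 k
    omega
  · exfalso
    rw [e, pow_mul, show (3 : ℤ) ^ 2 = 9 by norm_num] at hy
    have := h9 k
    omega
  · rw [Odd.neg_pow ⟨k, rfl⟩]; exact e

theorem classify {r : ℕ} (hr5 : 5 ≤ r) {y z : ℤ} (hy : y % 4 = 1)
    (hy1 : 2 ≤ y.natAbs) (hz : y + 1 = 2 * z) (hys : Smooth r y.natAbs) (hzs : Smooth r z.natAbs) :
    TypeB r y ∨ TypeC r y := by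
  obtain ⟨a, b, hab⟩ := hys
  obtain ⟨c, d, hcd⟩ := hzs
  have hnot : ∀ k : ℕ, 2 ≤ k → k ∣ y.natAbs → ¬ k ∣ z.natAbs := fun k hk h1 h2 => by
    have e1 : (k : ℤ) ∣ y := Int.natCast_dvd.2 h1
    have e2 : (k : ℤ) ∣ z := Int.natCast_dvd.2 h2
    have e3 : (k : ℤ) ∣ 1 := by
      have := (e2.mul_left 2).sub e1
      rwa [← hz, add_sub_cancel_left] at this
    have := Int.le_of_dvd one_pos e3
    omega
  by_cases hb : b = 0
  · subst hb
    rw [pow_zero, mul_one] at hab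
    have ha : 1 ≤ a := Nat.one_le_iff_ne_zero.2 fun h => by rw [h, pow_zero] at hab; omega
    refine Or.inl ⟨a, ha, natAbs_three_pow_eq hy hab, fun ha2 => ?_⟩
    by_cases hd : d = 0
    · exfalso
      subst hd
      rw [pow_zero, mul_one] at hcd
      rcases c with _ | c
      · rw [pow_zero] at hcd
        have h9 : 3 ^ 2 ≤ 3 ^ a := Nat.pow_le_pow_right (by norm_num) ha2
        omega
      · exact hnot 3 (by norm_num) (hab ▸ dvd_pow_self 3 (by omega))
          (hcd ▸ dvd_pow_self 3 (by omega))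
    · rw [hz]
      exact (Int.natCast_dvd.2 (hcd ▸ dvd_mul_of_dvd_right (dvd_pow_self r hd) _)).mul_left 2
  · have hrY : r ∣ y.natAbs := hab ▸ dvd_mul_of_dvd_right (dvd_pow_self r hb) _
    have hd : d = 0 := by
      by_contra hd
      exact hnot r (by omega) hrY (hcd ▸ dvd_mul_of_dvd_right (dvd_pow_self r hd) _)
    subst hd
    rw [pow_zero, mul_one] at hcd
    have hc : 1 ≤ c := Nat.one_le_iff_ne_zero.2 fun h => by
      rw [h, pow_zero] at hcd
      have := Nat.le_of_dvd (by omega) hrY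
      omega
    have ha : a = 0 := by
      by_contra ha
      exact hnot 3 (by norm_num) (hab ▸ dvd_mul_of_dvd_left (dvd_pow_self 3 ha) _)
        (hcd ▸ dvd_pow_self 3 (by omega))
    subst ha
    rw [pow_zero, one_mul] at hab
    refine Or.inr ⟨b, c, Nat.one_le_iff_ne_zero.2 hb, hc, hab, ?_⟩
    rw [hz, Int.natAbs_mul, hcd]
    rfl

theorem TypeB.mod_three {r : ℕ} {y : ℤ} (h : TypeB r y) : (y : ZMod 3) = 0 := by
  obtain ⟨a, ha, rfl, -⟩ := h
  push_cast
  rw [show (-3 : ZMod 3) = 0 by decide, zero_pow (by omega)]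

theorem TypeC.mod_three {r : ℕ} {y : ℤ} (h : TypeC r y) : (y : ZMod 3) = -1 := by
  obtain ⟨b, c, -, hc, -, h3⟩ := h
  have hd : ((3 : ℕ) : ℤ) ∣ y + 1 := Int.natCast_dvd.2 (h3 ▸ dvd_mul_of_dvd_right (dvd_pow_self 3 (by omega)) _)
  have := (ZMod.intCast_zmod_eq_zero_iff_dvd (y + 1) 3).2 hd
  push_cast at this
  exact eq_neg_of_add_eq_zero_left this

theorem two_B_one_C {r : ℕ} (hr : r.Prime) (hr5 : 5 ≤ r) {y₁ y₂ y₃ : ℤ} (h₁ : TypeB r y₁)
    (h₂ : TypeB r y₂) (h₃ : TypeC r y₃) (hsum : 1 + y₁ + y₂ + y₃ = 0) :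
    r = 5 ∧ y₃ = 5 := by
  obtain ⟨a₁, ha₁, rfl, hd₁⟩ := h₁
  obtain ⟨a₂, ha₂, rfl, hd₂⟩ := h₂
  wlog hle : a₁ ≤ a₂ generalizing a₁ a₂
  · exact this a₂ ha₂ hd₂ a₁ ha₁ (by linarith) hd₁ (by omega)
  obtain ⟨b, c, hb, hc, hy3, hz3⟩ := h₃
  obtain ⟨e, rfl⟩ : ∃ e, a₂ = a₁ + e := ⟨a₂ - a₁, by omega⟩
  have hrZ : Prime (r : ℤ) := Nat.prime_iff_prime_int.1 hr
  have he : y₃ + 1 = -((-3) ^ a₁ * (1 + (-3) ^ e)) := by rw [mul_add, mul_one, ← pow_add]; linarith
  have hrdvd : (r : ℤ) ∣ y₃ := Int.natCast_dvd.2 (hy3 ▸ dvd_pow_self r (by omega))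
  have he01 : e = 0 ∨ e = 1 := by
    rw [he, Int.natAbs_neg, Int.natAbs_mul, Int.natAbs_pow] at hz3
    change 3 ^ a₁ * _ = _ at hz3
    by_cases he0 : e = 0
    · exact Or.inl he0
    right
    have hn3 : ¬ 3 ∣ (1 + (-3 : ℤ) ^ e).natAbs := fun h => by
      have h1 : ((3 : ℕ) : ℤ) ∣ 1 + (-3) ^ e := Int.natCast_dvd.2 h
      have h2 : (3 : ℤ) ∣ (-3) ^ e := dvd_pow (by norm_num) he0
      have := h1.sub h2
      simp at this
    have hca : c = a₁ := by
      rcases lt_trichotomy c a₁ with h | h | h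
      · exfalso
        obtain ⟨k, rfl⟩ : ∃ k, a₁ = c + (k + 1) := ⟨a₁ - c - 1, by omega⟩
        rw [pow_add, mul_assoc, mul_comm 2] at hz3
        have := Nat.eq_of_mul_eq_mul_left (by positivity) hz3
        exact absurd (this ▸ dvd_mul_of_dvd_left (dvd_pow_self 3 k.succ_ne_zero) _ : 3 ∣ 2) (by norm_num)
      · exact h
      · exfalso
        obtain ⟨k, rfl⟩ : ∃ k, c = a₁ + (k + 1) := ⟨c - a₁ - 1, by omega⟩
        rw [pow_add, ← mul_assoc, mul_comm 2, mul_assoc] at hz3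
        have := Nat.eq_of_mul_eq_mul_left (by positivity) hz3
        exact hn3 (this ▸ dvd_mul_of_dvd_right (dvd_pow_self 3 k.succ_ne_zero) _)
    subst hca
    rw [mul_comm 2] at hz3
    have h2 := Nat.eq_of_mul_eq_mul_left (by positivity) hz3
    by_contra he1
    have h9 : 9 ≤ ((-3 : ℤ) ^ e).natAbs := by
      rw [Int.natAbs_pow]
      exact (Nat.pow_le_pow_right (n := 3) (by norm_num) (show 2 ≤ e by omega))
    omega
  rcases he01 with rfl | rfl
  · rw [pow_zero] at he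
    rcases Nat.lt_or_ge a₁ 2 with h | h
    · obtain rfl : a₁ = 1 := by omega
      norm_num at he
      obtain rfl : y₃ = 5 := by linarith
      have h5 : r ∣ 5 := Int.natCast_dvd_natCast.1 hrdvd
      exact ⟨(Nat.prime_dvd_prime_iff_eq hr Nat.prime_five).1 h5, rfl⟩
    · exfalso
      have h1 := hd₁ h
      have h2 : (r : ℤ) ∣ 1 := by
        have e1 : y₃ + 2 * ((-3) ^ a₁ + 1) = 1 := by linarith
        rw [← e1]
        exact dvd_add hrdvd (h1.mul_left 2)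
      exact hrZ.not_dvd_one h2
  · exfalso
    rcases Nat.lt_or_ge a₁ 2 with h | h
    · obtain rfl : a₁ = 1 := by omega
      norm_num at he
      obtain rfl : y₃ = -7 := by linarith
      have h7 : r ∣ 7 := Int.natCast_dvd.1 hrdvd
      have h10 := hd₂ (by norm_num)
      norm_num at h10
      have h10' : r ∣ 10 := by exact_mod_cast h10
      have := (Nat.prime_dvd_prime_iff_eq hr (by norm_num : Nat.Prime 7)).1 h7
      subst this
      norm_num at h10'
    · have h1 := hd₁ h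
      have h2 := hd₂ (by omega)
      have h4 : (r : ℤ) ∣ 4 := by
        have e1 : 3 * ((-3 : ℤ) ^ a₁ + 1) + ((-3) ^ (a₁ + 1) + 1) = 4 := by rw [pow_succ]; ring
        rw [← e1]
        exact dvd_add (h1.mul_left 3) h2
      have h4' : r ∣ 4 := by exact_mod_cast h4
      have := Nat.le_of_dvd (by norm_num) h4'
      omega

/-- The signed degrees of the principal block are `-3, -3, 5` in some order. -/
theorem five_of_classified {r : ℕ} (hr : r.Prime) (hr5 : 5 ≤ r) {y₁ y₂ y₃ : ℤ}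
    (h₁ : TypeB r y₁ ∨ TypeC r y₁) (h₂ : TypeB r y₂ ∨ TypeC r y₂) (h₃ : TypeB r y₃ ∨ TypeC r y₃)
    (hsum : 1 + y₁ + y₂ + y₃ = 0) :
    r = 5 ∧ ((y₁ = 5 ∧ TypeB r y₂ ∧ TypeB r y₃) ∨ (y₂ = 5 ∧ TypeB r y₁ ∧ TypeB r y₃) ∨
      (y₃ = 5 ∧ TypeB r y₁ ∧ TypeB r y₂)) := by
  have hs : (1 : ZMod 3) + y₁ + y₂ + y₃ = 0 := by
    have := congrArg (fun t : ℤ => (t : ZMod 3)) hsum
    push_cast at this
    exact this
  rcases h₁ with h₁ | h₁ <;> rcases h₂ with h₂ | h₂ <;> rcases h₃ with h₃ | h₃ <;>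
    simp only [h₁.mod_three, h₂.mod_three, h₃.mod_three] at hs
  · exact absurd hs (by decide)
  · obtain ⟨h, h'⟩ := two_B_one_C hr hr5 h₁ h₂ h₃ hsum
    exact ⟨h, Or.inr (Or.inr ⟨h', h₁, h₂⟩)⟩
  · obtain ⟨h, h'⟩ := two_B_one_C hr hr5 h₁ h₃ h₂ (by linarith)
    exact ⟨h, Or.inr (Or.inl ⟨h', h₁, h₃⟩)⟩
  · exact absurd hs (by decide)
  · obtain ⟨h, h'⟩ := two_B_one_C hr hr5 h₂ h₃ h₁ (by linarith)
    exact ⟨h, Or.inl ⟨h', h₂, h₃⟩⟩
  · exact absurd hs (by decide)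
  · exact absurd hs (by decide)
  · exact absurd hs (by decide)

end CfsgLib.CharsMore.SmallTriple
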