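import Cfsg.Agent.S4441
import Cfsg.Agent.S0948
import Cfsg.Agent.S4479
import Cfsg.Agent.S0992
import Cfsg.Agent.S0084
import Cfsg.Agent.S0202
import Cfsg.Agent.S0203
import Cfsg.Agent.S0496
import Cfsg.Agent.S0998
import Cfsg.Agent.Lib.CharsMore.NineTI.Main
import Cfsg.Agent.Lib.CharsMore.SmallTriple.Arith
import Cfsg.Agent.Lib.CharApps.AbelianSylow
import Cfsg.Agent.Lib.CharApps.PrincipalRational
import Cfsg.Agent.Lib.Small.PrincipalDegrees
import Cfsg.Agent.Lib.Small.Count
import Cfsg.Agent.Lib.Small.Order60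
import Cfsg.Agent.Lib.Small.PSLPrimes
import Cfsg.Agent.Lib.Chars.Burnside
import Cfsg.Agent.Lib.Classical.PermModels
import Cfsg.Agent.S0253

/-!
# Simple groups of order `3 p^a q^b` and `4 p^a q^b`

The principal block for the small Sylow subgroup has degrees next to a power of two, respectively
signed degrees `-3, -3, 5`; Schur's bound for a rational character then bounds the exponents.
-/

set_option autoImplicit false
set_option linter.style.haveILetI false
set_option linter.unusedSectionVars false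

namespace CfsgLib.CharsMore.SmallTriple

open Cfsg CfsgLib CfsgLib.Chars CfsgLib.CharApps Subgroup

universe u

variable {G : Type u} [Group G] [Finite G] [IsSimpleGroup G]

theorem two_primes_false (hG : ¬ IsMulCommutative G) {p q i j : ℕ} (hp : p.Prime) (hq : q.Prime)
    (h : Nat.card G = p ^ i * q ^ j) : False := by
  have h3 := three_le_card_primeFactors_of_simple (G := G) fun hc => hG ⟨⟨hc⟩⟩
  have hsub : (Nat.card G).primeFactors ⊆ {p, q} := by
    intro r hr
    have hrp := Nat.prime_of_mem_primeFactors hr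
    have hd := Nat.dvd_of_mem_primeFactors hr
    rw [h] at hd
    rcases hrp.dvd_mul.1 hd with h1 | h1
    · simp [(Nat.prime_dvd_prime_iff_eq hrp hp).1 (hrp.dvd_of_dvd_pow h1)]
    · simp [(Nat.prime_dvd_prime_iff_eq hrp hq).1 (hrp.dvd_of_dvd_pow h1)]
  have := (Finset.card_le_card hsub).trans Finset.card_le_two
  omega

theorem not_isCyclic' (hG : ¬ IsMulCommutative G) : ¬ IsCyclic G := fun h => hG (by
  haveI := h
  exact ⟨⟨(IsCyclic.commGroup (α := G)).mul_comm⟩⟩)

theorem faithful (hG : ¬ IsMulCommutative G) {χ : IrrCharacter G} (hχ : χ ≠ principal G) :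
    ∀ g : G, (χ : G → ℂ) g = (χ : G → ℂ) 1 → g = 1 := by
  classical
  haveI := Fintype.ofFinite G
  have hone := Small.one_lt_charDegree hG hχ
  intro g hg
  rcases (charKer_normal χ).eq_bot_or_eq_top with h | h
  · rw [← mem_charKer, h, Subgroup.mem_bot] at hg; exact hg
  · exfalso
    have hall : ∀ k, (χ : G → ℂ) k = (χ : G → ℂ) 1 := fun k => mem_charKer.1 (h ▸ Subgroup.mem_top k)
    have h1 := inner_irr_self χ
    rw [inner_def, Finset.sum_congr rfl fun k _ => by rw [hall k], Finset.sum_const,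
      Finset.card_univ, nsmul_eq_mul, ← Nat.card_eq_fintype_card, ← mul_assoc,
      inv_mul_cancel₀ (card_ne_zero G), one_mul, CharApps.deg_eq χ, map_natCast] at h1
    have h2 : charDegree (χ : G → ℂ) * charDegree (χ : G → ℂ) = 1 := by exact_mod_cast h1
    exact absurd (Nat.eq_one_of_mul_eq_one_right h2) (by omega)

theorem rational_of_unique [Fintype G] {p : ℕ} [Fact p.Prime] {M : Ideal AlgInt}
    (hM : IsPModular p M) {χ : IrrCharacter G} (hχ : χ ∈ principalBlock M G)
    (huniq : ∀ ψ ∈ principalBlock M G,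
      charDegree (ψ : G → ℂ) = charDegree (χ : G → ℂ) → ψ = χ) (σ : ℂ ≃+* ℂ) :
    galoisIrr σ χ = χ := by
  haveI : M.IsPrime := hM.2.1.isPrime
  refine huniq _ ((galoisIrr_mem_principalBlock (p := p) hM.2.2 σ χ).2 hχ) ?_
  apply Nat.cast_injective (R := ℂ)
  rw [← CharApps.deg_eq, ← CharApps.deg_eq, galoisIrr_apply, CharApps.deg_eq, map_natCast]

theorem schur [Fintype G] (hG : ¬ IsMulCommutative G) {p : ℕ} [Fact p.Prime] {M : Ideal AlgInt}
    (hM : IsPModular p M) {χ : IrrCharacter G} (hχ : χ ∈ principalBlock M G)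
    (hne : χ ≠ principal G) (huniq : ∀ ψ ∈ principalBlock M G,
      charDegree (ψ : G → ℂ) = charDegree (χ : G → ℂ) → ψ = χ) {r : ℕ} (hr : r.Prime) :
    (Nat.card G).factorization r ≤ ∑ i ∈ Finset.range (charDegree (χ : G → ℂ) + 1),
      charDegree (χ : G → ℂ) / ((r - 1) * r ^ i) :=
  NineTI.factorization_le_of_rational χ (rational_of_unique hM hχ huniq) (faithful hG hne) hr

/-! ## A Sylow subgroup of order three -/

/-- In the principal `3`-block the two nontrivial degrees are consecutive and the characters are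
determined by their degrees. -/
theorem three_block [Fintype G] (hG : ¬ IsMulCommutative G) {m : ℕ} (hm : ¬ 3 ∣ m)
    (hcard : Nat.card G = 3 * m) (M : Ideal AlgInt) (hM : IsPModular 3 M) :
    ∃ φ ψ : IrrCharacter G, φ ∈ principalBlock M G ∧ φ ≠ principal G ∧ ψ ≠ principal G ∧
      (∀ θ ∈ principalBlock M G, charDegree (θ : G → ℂ) = charDegree (φ : G → ℂ) → θ = φ) ∧
      ψ ∈ principalBlock M G ∧
      (∀ θ ∈ principalBlock M G, charDegree (θ : G → ℂ) = charDegree (ψ : G → ℂ) → θ = ψ) ∧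
      charDegree (ψ : G → ℂ) = charDegree (φ : G → ℂ) + 1 ∧
      ¬ 3 ∣ charDegree (φ : G → ℂ) ∧ ¬ 3 ∣ charDegree (ψ : G → ℂ) := by
  classical
  haveI := Fact.mk Nat.prime_three
  haveI := hM.2.1.isPrime
  obtain ⟨P⟩ := (inferInstance : Nonempty (Sylow 3 G))
  have hP : Nat.card (P : Subgroup G) = 3 := by
    simpa using Small.card_sylow_eq (p := 3) 1 m (by simpa using hcard) hm P
  obtain ⟨e, he1, he2, hece⟩ := Small.exists_normalizer_centralizer hG P hP
  obtain rfl : e = 2 := by have := Nat.le_of_dvd (by norm_num) he2; omega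
  have hle := Subgroup.centralizer_le_normalizer ((P : Subgroup G) : Set G)
  have hrel : (centralizer ((P : Subgroup G) : Set G)).relIndex
      (normalizer ((P : Subgroup G) : Set G)) = 2 := by
    have h := Subgroup.relIndex_mul_relIndex ⊥ _ _ bot_le hle
    rw [Subgroup.relIndex_bot_left, Subgroup.relIndex_bot_left, ← hece] at h
    exact Nat.eq_of_mul_eq_mul_left Nat.card_pos h
  obtain ⟨X, Y, hB, hdisj, hX, hY, εX, ε, hXp, hε, hYdeg, -, hYrel⟩ :=
    Agent.S4441.result 3 M hM (by norm_num) P hP 2 hrel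
  obtain ⟨θ, hθ⟩ : ∃ θ, Y = {θ} := by
    rw [Nat.card_coe_set_eq, show (3 - 1) / 2 = 1 by norm_num, Set.ncard_eq_one] at hY
    exact hY
  obtain ⟨a, b, hab, hXab⟩ : ∃ a b, a ≠ b ∧ X = {a, b} := by
    rw [Nat.card_coe_set_eq, Set.ncard_eq_two] at hX
    exact hX
  have hθX : θ ∉ X := fun h => Set.disjoint_left.1 hdisj h (by rw [hθ]; rfl)
  have haθ : a ≠ θ := fun h => hθX (by rw [hXab]; exact Or.inl h.symm)
  have hbθ : b ≠ θ := fun h => hθX (by rw [hXab]; exact Or.inr h.symm)
  have hBset : ∀ χ, χ ∈ principalBlock M G ↔ χ = a ∨ χ = b ∨ χ = θ := fun χ => by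
    rw [hB, hXab, hθ]
    simp only [Set.mem_union, Set.mem_insert_iff, Set.mem_singleton_iff, or_assoc]
  -- the signed degrees add up to zero
  have hrel1 : (εX a : ℤ) * charDegree (a : G → ℂ) + εX b * charDegree (b : G → ℂ) +
      (-ε) * charDegree (θ : G → ℂ) = 0 := by
    have h := hYrel θ (by rw [hθ]; rfl) 1 (by simp)
    rw [hXab, finsum_mem_pair hab, CharApps.deg_eq, CharApps.deg_eq, CharApps.deg_eq] at h
    have h' : ((ε * charDegree (θ : G → ℂ) : ℤ) : ℂ) =
        ((εX a * charDegree (a : G → ℂ) + εX b * charDegree (b : G → ℂ) : ℤ) : ℂ) := by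
      push_cast; exact h
    have := Int.cast_injective h'
    linarith
  have hn3 : ∀ χ ∈ principalBlock M G, ¬ 3 ∣ charDegree (χ : G → ℂ) := by
    intro χ hχ hd
    have hd' : (charDegree (χ : G → ℂ) : ℤ) % 3 = 0 := by omega
    rw [hB] at hχ
    rcases hχ with h | h
    · obtain ⟨hs, hmod, -⟩ := hXp χ h
      rw [Int.ModEq] at hmod
      rcases hs with hs | hs <;> rw [hs] at hmod <;> omega
    · have hmod := hYdeg χ h
      rw [Int.ModEq] at hmod
      rcases hε with hs | hs <;> rw [hs] at hmod <;> omega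
  have hsa := (hXp a (by rw [hXab]; exact Or.inl rfl)).1
  have hsb := (hXp b (by rw [hXab]; exact Or.inr rfl)).1
  have hdeg1 : charDegree (principal G : G → ℂ) = 1 :=
    (CharApps.deg_eq_one_iff (principal G)).mp (principal_apply 1)
  have key : ∀ (u v w : IrrCharacter G) (s t r : ℤ), u = principal G → v ≠ u → w ≠ u → v ≠ w →
      (∀ χ, χ ∈ principalBlock M G ↔ χ = u ∨ χ = v ∨ χ = w) →
      (s = 1 ∨ s = -1) → (t = 1 ∨ t = -1) → (r = 1 ∨ r = -1) →
      s * charDegree (u : G → ℂ) + t * charDegree (v : G → ℂ) + r * charDegree (w : G → ℂ) = 0 →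
      ∃ φ ψ : IrrCharacter G, φ ∈ principalBlock M G ∧ φ ≠ principal G ∧ ψ ≠ principal G ∧
      (∀ θ ∈ principalBlock M G, charDegree (θ : G → ℂ) = charDegree (φ : G → ℂ) → θ = φ) ∧
      ψ ∈ principalBlock M G ∧
      (∀ θ ∈ principalBlock M G, charDegree (θ : G → ℂ) = charDegree (ψ : G → ℂ) → θ = ψ) ∧
      charDegree (ψ : G → ℂ) = charDegree (φ : G → ℂ) + 1 ∧
      ¬ 3 ∣ charDegree (φ : G → ℂ) ∧ ¬ 3 ∣ charDegree (ψ : G → ℂ) := by
    intro u v w s t r hu hv hw hvw hset hs ht hr hsum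
    subst hu
    have hv1 := Small.one_lt_charDegree hG hv
    have hw1 := Small.one_lt_charDegree hG hw
    rw [hdeg1] at hsum
    have h : charDegree (w : G → ℂ) = charDegree (v : G → ℂ) + 1 ∨
        charDegree (v : G → ℂ) = charDegree (w : G → ℂ) + 1 := by
      rcases hs with rfl | rfl <;> rcases ht with rfl | rfl <;> rcases hr with rfl | rfl <;> omega
    have hu' : ∀ x, x = v ∨ x = w → ∀ θ ∈ principalBlock M G,
        charDegree (θ : G → ℂ) = charDegree (x : G → ℂ) → θ = x := by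
      intro x hx η hη e
      rcases (hset η).1 hη with h' | h' | h'
      · exfalso
        rw [h', hdeg1] at e
        rcases hx with h'' | h'' <;> rw [h''] at e <;> omega
      · rcases hx with h'' | h''
        · exact h'.trans h''.symm
        · exfalso; rw [h', h''] at e; omega
      · rcases hx with h'' | h''
        · exfalso; rw [h', h''] at e; omega
        · exact h'.trans h''.symm
    have hvB := (hset v).2 (Or.inr (Or.inl rfl))
    have hwB := (hset w).2 (Or.inr (Or.inr rfl))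
    rcases h with h | h
    · exact ⟨v, w, hvB, hv, hw, hu' v (Or.inl rfl), hwB, hu' w (Or.inr rfl), h, hn3 v hvB, hn3 w hwB⟩
    · exact ⟨w, v, hwB, hw, hv, hu' w (Or.inr rfl), hvB, hu' v (Or.inl rfl), h, hn3 w hwB, hn3 v hvB⟩
  have hεn : -ε = 1 ∨ -ε = -1 := by omega
  rcases (hBset _).1 (Blocks.principal_mem_principalBlock (G := G) M) with h | h | h
  · exact key a b θ _ _ _ h.symm hab.symm haθ.symm hbθ hBset hsa hsb hεn hrel1
  · exact key b a θ _ _ _ h.symm hab hbθ.symm haθ
      (fun χ => (hBset χ).trans or_left_comm) hsb hsa hεn (by linarith)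
  · exact key θ a b _ _ _ h.symm haθ hbθ hab
      (fun χ => (hBset χ).trans (by rw [← or_assoc, or_comm])) hεn hsa hsb (by linarith)

/-- A simple group of order `3 · 2^i q^j` has `j = 1`. -/
theorem exponent_of_three [Fintype G] (hG : ¬ IsMulCommutative G) {q i j : ℕ} (hq : q.Prime)
    (hq5 : 5 ≤ q) (hcard : Nat.card G = 3 * (2 ^ i * q ^ j)) : j = 1 := by
  classical
  haveI := Fact.mk Nat.prime_three
  obtain ⟨M, hM⟩ := exists_pModular 3
  have hm : ¬ 3 ∣ 2 ^ i * q ^ j := fun h => by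
    rcases Nat.prime_three.dvd_mul.1 h with h | h
    · exact absurd (Nat.prime_three.dvd_of_dvd_pow h) (by norm_num)
    · have := (Nat.prime_dvd_prime_iff_eq Nat.prime_three hq).1 (Nat.prime_three.dvd_of_dvd_pow h)
      omega
  obtain ⟨φ, ψ, hφ, hφ1, hψ1, huφ, hψ, huψ, hsucc, h3φ, h3ψ⟩ := three_block hG hm hcard M hM
  have hf2 := Small.one_lt_charDegree hG hφ1
  have hshape : ∀ χ : IrrCharacter G, ¬ 3 ∣ charDegree (χ : G → ℂ) →
      ∃ x y, charDegree (χ : G → ℂ) = 2 ^ x * q ^ y := by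
    intro χ h3
    have hd := Small.charDegree_dvd_card χ
    rw [hcard] at hd
    obtain ⟨a, b, ha, hb, hab⟩ :=
      exists_dvd_and_dvd_of_dvd_mul ((Nat.prime_three.coprime_iff_not_dvd.2 h3).symm.dvd_of_dvd_mul_left hd)
    obtain ⟨x, -, rfl⟩ := (Nat.dvd_prime_pow Nat.prime_two).1 ha
    obtain ⟨y, -, rfl⟩ := (Nat.dvd_prime_pow hq).1 hb
    exact ⟨x, y, hab⟩
  obtain ⟨x, y, hf⟩ := hshape φ h3φ
  obtain ⟨x', y', hf'⟩ := hshape ψ h3ψ
  have hqf : ∀ {d}, 1 ≤ d → q ∣ q ^ d := fun hd => dvd_pow_self q (by omega)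
  have hnot : ¬ (q ∣ charDegree (φ : G → ℂ) ∧ q ∣ charDegree (ψ : G → ℂ)) := fun ⟨h1, h2⟩ => by
    rw [hsucc] at h2
    exact hq.not_dvd_one ((Nat.dvd_add_right h1).1 h2)
  have hnot2 : ¬ (1 ≤ x ∧ 1 ≤ x') := fun ⟨h1, h2⟩ => by
    have e1 : 2 ∣ charDegree (φ : G → ℂ) := hf ▸ dvd_mul_of_dvd_left (dvd_pow_self 2 (by omega)) _
    have e2 : 2 ∣ charDegree (ψ : G → ℂ) := hf' ▸ dvd_mul_of_dvd_left (dvd_pow_self 2 (by omega)) _
    omega
  have hq' : charDegree (φ : G → ℂ) = q ∨ charDegree (ψ : G → ℂ) = q := by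
    rcases Nat.eq_zero_or_pos y with rfl | hy
    · rw [pow_zero, mul_one] at hf
      have hx : 1 ≤ x := Nat.one_le_iff_ne_zero.2 fun h => by rw [h, pow_zero] at hf; omega
      obtain rfl : x' = 0 := by
        by_contra h
        exact hnot2 ⟨hx, Nat.one_le_iff_ne_zero.2 h⟩
      rw [pow_zero, one_mul] at hf'
      have hy' : 1 ≤ y' := Nat.one_le_iff_ne_zero.2 fun h => by rw [h, pow_zero] at hf'; omega
      obtain rfl := exponent_eq_one hq hq5 hy' (x := x) (Or.inr (by omega))
      rw [pow_one] at hf'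
      exact Or.inr hf'
    · obtain rfl : y' = 0 := by
        by_contra h
        exact hnot ⟨hf ▸ dvd_mul_of_dvd_right (hqf hy) _,
          hf' ▸ dvd_mul_of_dvd_right (hqf (Nat.one_le_iff_ne_zero.2 h)) _⟩
      rw [pow_zero, mul_one] at hf'
      have hx' : 1 ≤ x' := Nat.one_le_iff_ne_zero.2 fun h => by rw [h, pow_zero] at hf'; omega
      obtain rfl : x = 0 := by
        by_contra h
        exact hnot2 ⟨Nat.one_le_iff_ne_zero.2 h, hx'⟩
      rw [pow_zero, one_mul] at hf
      obtain rfl := exponent_eq_one hq hq5 hy (x := x') (Or.inl (by omega))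
      rw [pow_one] at hf
      exact Or.inl hf
  have hle : (Nat.card G).factorization q ≤ 1 := by
    have hsum : ∀ n, n = q → ∑ k ∈ Finset.range (n + 1), n / ((q - 1) * q ^ k) ≤ 1 := by
      rintro n rfl
      rw [Finset.sum_eq_single 0 (fun k _ hk => ?_) (fun h => absurd (Finset.mem_range.2 (by omega)) h)]
      · rw [pow_zero, mul_one, Nat.div_le_iff_le_mul_add_pred (by omega)]
        omega
      · refine Nat.div_eq_of_lt ?_
        have h1 : n ≤ n ^ k := Nat.le_self_pow hk n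
        have h2 : 2 * n ^ k ≤ (n - 1) * n ^ k := Nat.mul_le_mul_right _ (by omega)
        omega
    rcases hq' with h | h
    · exact (schur hG hM hφ hφ1 huφ hq).trans (hsum _ h)
    · exact (schur hG hM hψ hψ1 huψ hq).trans (hsum _ h)
  have hj : j ≤ 1 := by
    have h1 : q ^ j ∣ Nat.card G := hcard ▸ dvd_mul_of_dvd_right (dvd_mul_left _ _) _
    exact ((hq.pow_dvd_iff_le_factorization Nat.card_pos.ne').1 h1).trans hle
  refine le_antisymm hj (Nat.one_le_iff_ne_zero.2 fun h0 => ?_)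
  rw [h0, pow_zero, mul_one] at hcard
  exact two_primes_false hG Nat.prime_three Nat.prime_two (i := 1) (j := i) (by rw [hcard, pow_one])

/-- The simple groups of order `3 p^a q^b`. -/
theorem recognise_three (hG : ¬ IsMulCommutative G) {p q a b : ℕ} (hp : p.Prime) (hq : q.Prime)
    (hcard : Nat.card G = 3 * p ^ a * q ^ b) :
    Nonempty (G ≃* alternatingGroup (Fin 5)) ∨
      Nonempty (G ≃* Matrix.ProjectiveSpecialLinearGroup (Fin 2) (ZMod 7)) := by
  classical
  haveI := Fintype.ofFinite G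
  rcases eq_or_ne p 3 with rfl | hp3
  · exact (two_primes_false hG Nat.prime_three hq (i := a + 1) (j := b) (by rw [hcard, pow_succ]; ring)).elim
  rcases eq_or_ne q 3 with rfl | hq3
  · exact (two_primes_false hG Nat.prime_three hp (i := b + 1) (j := a) (by rw [hcard, pow_succ]; ring)).elim
  have heven : 2 ∣ Nat.card G := by
    by_contra h
    haveI : Group.IsSolvable G := CfsgLib.FT.isSolvable_of_odd (Nat.odd_iff.2 (by omega))
    exact hG ⟨⟨fun x y => IsSimpleGroup.comm_iff_isSolvable.2 inferInstance x y⟩⟩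
  obtain ⟨r, i, j, hr, hcard'⟩ : ∃ r i j, r.Prime ∧ Nat.card G = 3 * (2 ^ i * r ^ j) := by
    rw [hcard, mul_assoc] at heven
    rcases Nat.prime_two.dvd_mul.1 heven with h | h
    · norm_num at h
    rcases Nat.prime_two.dvd_mul.1 h with h | h <;>
      have h := Nat.prime_two.dvd_of_dvd_pow h
    · obtain rfl := (Nat.prime_dvd_prime_iff_eq Nat.prime_two hp).1 h
      exact ⟨q, a, b, hq, by rw [hcard, mul_assoc]⟩
    · obtain rfl := (Nat.prime_dvd_prime_iff_eq Nat.prime_two hq).1 h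
      exact ⟨p, b, a, hp, by rw [hcard]; ring⟩
  have hr5 : 5 ≤ r := by
    rcases Nat.lt_or_ge r 5 with h | h
    · exfalso
      have := hr.two_le
      interval_cases r
      · exact two_primes_false hG Nat.prime_three Nat.prime_two (i := 1) (j := i + j)
          (by rw [hcard', pow_one, pow_add])
      · exact two_primes_false hG Nat.prime_three Nat.prime_two (i := j + 1) (j := i)
          (by rw [hcard', pow_succ]; ring)
      · norm_num at hr
    · exact h
  obtain rfl := exponent_of_three hG hr hr5 hcard'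
  rcases Agent.S0998.result (not_isCyclic' hG) 3 2 r i Nat.prime_three Nat.prime_two hr (by norm_num)
      (by omega) (by omega) (by rw [hcard']; ring) with ⟨F, _, _, hF, ⟨e⟩⟩ | ⟨F, _, _, hF, ⟨e⟩⟩
  · haveI := Fact.mk Nat.prime_five
    obtain ⟨j⟩ := Agent.S0253.result (F := F) hF
    exact Or.inl ⟨e.trans j⟩
  · haveI := Fact.mk (by norm_num : Nat.Prime 7)
    obtain ⟨e2⟩ := Classical.nonempty_PSL_congr (ι := Fin 2) (ZMod.ringEquivOfPrime F (by norm_num : Nat.Prime 7) hF).symm
    exact Or.inr ⟨e.trans e2⟩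

/-! ## A four-group as Sylow `2`-subgroup -/

/-- A simple group of order `4 · 3^m r^n` has order `60`. -/
theorem card_of_four [Fintype G] (hG : ¬ IsMulCommutative G) {r m n : ℕ} (hr : r.Prime)
    (hr5 : 5 ≤ r) (hcard : Nat.card G = 4 * (3 ^ m * r ^ n)) : Nat.card G = 60 := by
  classical
  haveI := Fact.mk Nat.prime_two
  obtain ⟨M, hM⟩ := exists_pModular 2
  have hodd : Odd (3 ^ m * r ^ n) :=
    ((show Odd (3 : ℕ) by decide).pow).mul (hr.odd_of_ne_two (by omega)).pow
  have h8 : ¬ 8 ∣ Nat.card G := fun h => by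
    obtain ⟨k, hk⟩ := hodd; omega
  obtain ⟨T⟩ := (inferInstance : Nonempty (Sylow 2 G))
  have h2 : Even (Nat.card G) := ⟨2 * (3 ^ m * r ^ n), by omega⟩
  obtain ⟨hK, -⟩ := Agent.S0992.result hG h2 h8 T
  have hnc : ¬ ∃ N : Subgroup G, N.Normal ∧ Nat.card N = 3 ^ m * r ^ n := by
    rintro ⟨N, hN, hNc⟩
    rcases IsSimpleGroup.eq_bot_or_eq_top_of_normal N hN with h | h <;> subst h
    · rw [Subgroup.card_bot] at hNc
      exact two_primes_false hG Nat.prime_two Nat.prime_two (i := 2) (j := 0)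
        (by rw [hcard, ← hNc]; norm_num)
    · rw [Subgroup.card_top, hcard] at hNc
      omega
  have hone : ∀ s t : G, orderOf s = 2 → orderOf t = 2 → IsConj s t := by
    rcases Agent.S0202.result T hK with h | h
    · intro s t hs ht
      rw [Nat.card_eq_one_iff_unique] at h
      exact ConjClasses.mk_eq_mk_iff_isConj.1 (congrArg Subtype.val
        (h.1.elim ⟨ConjClasses.mk s, s, hs, rfl⟩ ⟨ConjClasses.mk t, t, ht, rfl⟩))
    · obtain ⟨N, hN, hc⟩ := (Agent.S0203.result T hK).1 h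
      refine (hnc ⟨N, hN, ?_⟩).elim
      have h1 := hc.card_mul_card
      rw [hK.card_four, hcard] at h1
      omega
  obtain ⟨ζ₂, ζ₃, ζ₄, ε, hε, hn2, hn3, h23, h24, h34, hB, hval, hm2, hm3, hm4, hrel⟩ :=
    Agent.S0948.result M hM T hK hone
  obtain ⟨J, hJ2⟩ := exists_prime_orderOf_dvd_card' (G := (T : Subgroup G)) 2
    (by rw [hK.card_four]; norm_num)
  have hJ : orderOf (J : G) = 2 := by rw [Subgroup.orderOf_coe]; exact hJ2
  have hn4 : (ζ₄ : G → ℂ) ≠ (fun _ => 1) := fun e => by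
    have := (hval _ hJ).2.2
    rw [e] at this
    norm_num at this
  have hF := Agent.S4479.result M hM _ hodd hcard hnc T (J : G) J.2 hJ ζ₂ ζ₃ ζ₄ 1 ε (-1) hB
    ⟨hn2, hn3, hn4, h23, h24, h34⟩ ⟨Or.inl rfl, hε, Or.inr rfl⟩
    ⟨by rw [(hval _ hJ).1, Int.cast_one], (hval _ hJ).2.1,
      by rw [(hval _ hJ).2.2, Int.cast_neg, Int.cast_one]⟩
  have hne : ∀ χ : IrrCharacter G, (χ : G → ℂ) ≠ (fun _ => 1) → χ ≠ principal G := fun χ h e =>
    h (e ▸ funext fun g => principal_apply g)
  have hf2 := Small.one_lt_charDegree hG (hne _ hn2)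
  have hf3 := Small.one_lt_charDegree hG (hne _ hn3)
  have hf4 := Small.one_lt_charDegree hG (hne _ hn4)
  set f₂ := charDegree (ζ₂ : G → ℂ) with e2
  set f₃ := charDegree (ζ₃ : G → ℂ) with e3
  set f₄ := charDegree (ζ₄ : G → ℂ) with e4
  set cJ := Nat.card (centralizer ({(J : G)} : Set G)) with ecJ
  set cP := Nat.card (centralizer ((T : Subgroup G) : Set G)) with ecP
  have hsum : 1 + (f₂ : ℤ) + ε * f₃ + -(f₄ : ℤ) = 0 := by
    have h := hrel 1 (by simp)
    rw [CharApps.deg_eq, CharApps.deg_eq, CharApps.deg_eq, ← e2, ← e3, ← e4] at h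
    have h' : ((1 + (f₂ : ℤ) + ε * f₃ + -(f₄ : ℤ) : ℤ) : ℂ) = ((0 : ℤ) : ℂ) := by
      push_cast; linear_combination h
    exact Int.cast_injective h'
  -- prime divisors of the shifted degrees
  have hdvd : ∀ f ∈ [f₂, f₃, f₄], f ∣ 3 ^ m * r ^ n := by
    intro f hf
    simp only [List.mem_cons, List.not_mem_nil, or_false] at hf
    have hodd' : ∀ g : ℕ, (g : ℤ) % 2 = 1 → g ∣ Nat.card G → g ∣ 3 ^ m * r ^ n := fun g hg hd => by
      refine (Nat.Coprime.pow_right 2 ((Nat.prime_two.coprime_iff_not_dvd.2 fun h => ?_).symm)).dvd_of_dvd_mul_left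
        (hcard ▸ hd : g ∣ 2 ^ 2 * (3 ^ m * r ^ n))
      omega
    rcases hf with rfl | rfl | rfl
    · exact hodd' _ (by omega) (Small.charDegree_dvd_card ζ₂)
    · exact hodd' _ (by rcases hε with h | h <;> rw [h] at hm3 <;> omega)
        (Small.charDegree_dvd_card ζ₃)
    · exact hodd' _ (by omega) (Small.charDegree_dvd_card ζ₄)
  have hne1 : ((f₂ : ℚ) + ((1 : ℤ) : ℚ)) ≠ 0 := by positivity
  have hne3 : ((f₃ : ℚ) + (ε : ℚ)) ≠ 0 := by
    have : (2 : ℚ) ≤ f₃ := by exact_mod_cast hf3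
    rcases hε with h | h <;> rw [h] <;> push_cast <;> linarith
  have hne4 : ((f₄ : ℚ) + ((-1 : ℤ) : ℚ)) ≠ 0 := by
    have : (2 : ℚ) ≤ f₄ := by exact_mod_cast hf4
    push_cast; linarith
  have hcP0 : (cP : ℚ) ≠ 0 := Nat.cast_ne_zero.2 Nat.card_pos.ne'
  have hEq : (Nat.card G : ℤ) * cP ^ 2 * ((f₂ + 1) * (f₃ + ε) * (f₄ + -1)) =
      8 * (f₂ * f₃ * f₄) * cJ ^ 3 := by
    have : ((Nat.card G : ℤ) : ℚ) * (cP : ℚ) ^ 2 *
        (((f₂ : ℚ) + ((1 : ℤ) : ℚ)) * ((f₃ : ℚ) + (ε : ℚ)) * ((f₄ : ℚ) + ((-1 : ℤ) : ℚ))) =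
        8 * ((f₂ : ℚ) * f₃ * f₄) * (cJ : ℚ) ^ 3 := by
      rw [Int.cast_natCast, hF]
      field_simp
    exact_mod_cast this
  have hprimes : ∀ l : ℕ, l.Prime → ((l : ℤ) ∣ (f₂ : ℤ) + 1 ∨ (l : ℤ) ∣ (f₃ : ℤ) + ε ∨
      (l : ℤ) ∣ (f₄ : ℤ) + -1) → l = 2 ∨ l = 3 ∨ l = r := by
    intro l hl h
    have hd : (l : ℤ) ∣ ((8 * (f₂ * f₃ * f₄) * cJ ^ 3 : ℕ) : ℤ) := by
      push_cast
      rw [← hEq]
      rcases h with h | h | h
      · exact dvd_mul_of_dvd_right ((h.mul_right _).mul_right _) _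
      · exact dvd_mul_of_dvd_right ((h.mul_left _).mul_right _) _
      · exact dvd_mul_of_dvd_right (h.mul_left _) _
    rw [Int.natCast_dvd_natCast] at hd
    have hG' : l ∣ Nat.card G ∨ l = 2 := by
      rcases hl.dvd_mul.1 hd with h | h
      · rcases hl.dvd_mul.1 h with h | h
        · exact Or.inr ((Nat.prime_dvd_prime_iff_eq hl Nat.prime_two).1
            (hl.dvd_of_dvd_pow (show l ∣ 2 ^ 3 from h)))
        · left
          rcases hl.dvd_mul.1 h with h | h
          · rcases hl.dvd_mul.1 h with h | h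
            · exact h.trans (Small.charDegree_dvd_card ζ₂)
            · exact h.trans (Small.charDegree_dvd_card ζ₃)
          · exact h.trans (Small.charDegree_dvd_card ζ₄)
      · exact Or.inl ((hl.dvd_of_dvd_pow h).trans (Subgroup.card_subgroup_dvd_card _))
    rcases hG' with h | h
    · rw [hcard] at h
      rcases hl.dvd_mul.1 h with h | h
      · exact Or.inl ((Nat.prime_dvd_prime_iff_eq hl Nat.prime_two).1
          (hl.dvd_of_dvd_pow (show l ∣ 2 ^ 2 from h)))
      · rcases hl.dvd_mul.1 h with h | h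
        · exact Or.inr (Or.inl ((Nat.prime_dvd_prime_iff_eq hl Nat.prime_three).1 (hl.dvd_of_dvd_pow h)))
        · exact Or.inr (Or.inr ((Nat.prime_dvd_prime_iff_eq hl hr).1 (hl.dvd_of_dvd_pow h)))
    · exact Or.inl h
  have hclass : ∀ (f : ℕ) (s : ℤ), f ∈ [f₂, f₃, f₄] → 1 < f → (s = 1 ∨ s = -1) → (4 : ℤ) ∣ (f : ℤ) - s →
      (∀ l : ℕ, l.Prime → (l : ℤ) ∣ (f : ℤ) + s → l = 2 ∨ l = 3 ∨ l = r) →
      TypeB r (s * f) ∨ TypeC r (s * f) := by
    intro f s hf hf1 hs h4 hl
    obtain ⟨z, hz⟩ : (2 : ℤ) ∣ s * f + 1 := by rcases hs with rfl | rfl <;> omega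
    have hy : (s * f) % 4 = 1 := by rcases hs with rfl | rfl <;> omega
    have habs : (s * f).natAbs = f := by rcases hs with rfl | rfl <;> simp
    refine classify hr5 hy (by omega) hz (habs.symm ▸ smooth_of_dvd hr (hdvd f hf)) ?_
    have hz0 : z.natAbs ≠ 0 := by rcases hs with rfl | rfl <;> omega
    have hzf : z.natAbs = 3 ^ z.natAbs.factorization 3 * r ^ z.natAbs.factorization r := by
      refine Nat.eq_of_factorization_eq hz0 (Nat.mul_ne_zero (pow_ne_zero _ (by norm_num))
        (pow_ne_zero _ hr.ne_zero)) fun l => ?_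
      rw [Nat.factorization_mul (pow_ne_zero _ (by norm_num)) (pow_ne_zero _ hr.ne_zero),
        Nat.prime_three.factorization_pow, hr.factorization_pow, Finsupp.add_apply,
        Finsupp.single_apply, Finsupp.single_apply]
      by_cases hlp : l.Prime
      swap
      · rw [Nat.factorization_eq_zero_of_not_prime _ hlp,
          if_neg (fun h : 3 = l => hlp (h ▸ Nat.prime_three)),
          if_neg (fun h : r = l => hlp (h ▸ hr)), add_zero]
      by_cases hlz : l ∣ z.natAbs
      swap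
      · rw [Nat.factorization_eq_zero_of_not_dvd hlz]
        split_ifs with h h' h'
        · omega
        · subst h; simp [Nat.factorization_eq_zero_of_not_dvd hlz]
        · subst h'; simp [Nat.factorization_eq_zero_of_not_dvd hlz]
        · simp
      have hlz' : (l : ℤ) ∣ (f : ℤ) + s := by
        have h1 : (l : ℤ) ∣ s * f + 1 := hz ▸ (Int.natCast_dvd.2 hlz).mul_left 2
        have h2 := h1.mul_left s
        rcases hs with rfl | rfl
        · simpa using h2
        · simpa [mul_add] using h2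
      rcases hl l hlp hlz' with rfl | rfl | rfl
      · exfalso
        have h1 : (2 : ℤ) ∣ z := Int.natCast_dvd.2 hlz
        omega
      · rw [if_pos rfl, if_neg (by omega : r ≠ 3)]; simp
      · rw [if_neg (by omega : (3 : ℕ) ≠ l), if_pos rfl]; simp
    exact ⟨_, _, hzf⟩
  have hA := hclass f₂ 1 (by simp) hf2 (Or.inl rfl) hm2 fun l hl h => hprimes l hl (Or.inl h)
  have hBc := hclass f₃ ε (by simp) hf3 hε hm3 fun l hl h => hprimes l hl (Or.inr (Or.inl h))
  have hC := hclass f₄ (-1) (by simp) hf4 (Or.inr rfl) (by rw [sub_neg_eq_add]; exact hm4)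
    fun l hl h => hprimes l hl (Or.inr (Or.inr h))
  obtain ⟨rfl, hpat⟩ := five_of_classified hr hr5 hA hBc hC (by linarith)
  -- the character of degree five
  have hB3 : ∀ f : ℕ, ∀ s : ℤ, TypeB 5 (s * f) → f ≠ 5 := by
    rintro f s ⟨a, ha, he, -⟩ rfl
    have h3 : (3 : ℤ) ∣ s * ((5 : ℕ) : ℤ) := he ▸ dvd_pow (by norm_num) (by omega)
    have hs3 : (3 : ℤ) ∣ s := by omega
    obtain ⟨k, rfl⟩ := hs3
    have : ((3 : ℤ) * k * ((5 : ℕ) : ℤ)).natAbs = 3 ^ a := by rw [he, Int.natAbs_pow]; rfl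
    have h5 : 5 ∣ 3 ^ a := this ▸ Int.natAbs_dvd_natAbs.2 (dvd_mul_left _ _)
    exact absurd (Nat.prime_five.dvd_of_dvd_pow h5) (by norm_num)
  have hdeg1 : charDegree (principal G : G → ℂ) = 1 :=
    (CharApps.deg_eq_one_iff (principal G)).mp (principal_apply 1)
  obtain ⟨χ, hχB, hχne, hχ5, huniq⟩ : ∃ χ ∈ principalBlock M G, χ ≠ principal G ∧
      charDegree (χ : G → ℂ) = 5 ∧
      ∀ ψ ∈ principalBlock M G, charDegree (ψ : G → ℂ) = charDegree (χ : G → ℂ) → ψ = χ := by
    have h1 : ∀ ψ ∈ principalBlock M G, ψ = principal G ∨ ψ = ζ₂ ∨ ψ = ζ₃ ∨ ψ = ζ₄ := by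
      intro ψ hψ
      rw [hB] at hψ
      rcases hψ with h | h
      · exact Or.inl (Subtype.ext (h.trans (funext fun g => (principal_apply g).symm)))
      · exact Or.inr h
    rcases hpat with ⟨h5, hb, hc⟩ | ⟨h5, ha, hc⟩ | ⟨h5, ha, hb⟩
    · have hf : f₂ = 5 := by omega
      refine ⟨ζ₂, by rw [hB]; exact Or.inr (Or.inl rfl), hne _ hn2, hf, fun ψ hψ e => ?_⟩
      rw [← e2, hf] at e
      rcases h1 ψ hψ with rfl | rfl | rfl | rfl
      · omega
      · rfl
      · exact absurd e (hB3 _ _ hb)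
      · exact absurd e (hB3 _ _ hc)
    · have hf : f₃ = 5 := by rcases hε with h | h <;> rw [h] at h5 <;> omega
      refine ⟨ζ₃, by rw [hB]; exact Or.inr (Or.inr (Or.inl rfl)), hne _ hn3, hf, fun ψ hψ e => ?_⟩
      rw [← e3, hf] at e
      rcases h1 ψ hψ with rfl | rfl | rfl | rfl
      · omega
      · exact absurd e (hB3 _ _ ha)
      · rfl
      · exact absurd e (hB3 _ _ hc)
    · have hf : f₄ = 5 := by omega
      refine ⟨ζ₄, by rw [hB]; exact Or.inr (Or.inr (Or.inr rfl)), hne _ hn4, hf, fun ψ hψ e => ?_⟩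
      rw [← e4, hf] at e
      rcases h1 ψ hψ with rfl | rfl | rfl | rfl
      · omega
      · exact absurd e (hB3 _ _ ha)
      · exact absurd e (hB3 _ _ hb)
      · rfl
  have hb5 : n ≤ 1 := by
    refine ((Nat.prime_five.pow_dvd_iff_le_factorization Nat.card_pos.ne').1
      (hcard ▸ dvd_mul_of_dvd_right (dvd_mul_left _ _) _)).trans
      ((schur hG hM hχB hχne huniq Nat.prime_five).trans ?_)
    rw [hχ5]; decide
  have hb3 : m ≤ 2 := by
    refine ((Nat.prime_three.pow_dvd_iff_le_factorization Nat.card_pos.ne').1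
      (hcard ▸ dvd_mul_of_dvd_right (dvd_mul_right _ _) _)).trans
      ((schur hG hM hχB hχne huniq Nat.prime_three).trans ?_)
    rw [hχ5]; decide
  have hsmall := Agent.S0496.result hG (by rw [hcard]; interval_cases n <;> interval_cases m <;> norm_num)
  rw [hcard] at hsmall ⊢
  interval_cases n <;> interval_cases m
  all_goals norm_num at hsmall
  all_goals norm_num

/-- The simple groups of order `4 p^a q^b`. -/
theorem recognise_four (hG : ¬ IsMulCommutative G) {p q a b : ℕ} (hp : p.Prime) (hq : q.Prime)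
    (hcard : Nat.card G = 4 * p ^ a * q ^ b) : Nonempty (G ≃* alternatingGroup (Fin 5)) := by
  classical
  haveI := Fintype.ofFinite G
  haveI := Fact.mk Nat.prime_two
  rcases eq_or_ne p 2 with rfl | hp2
  · exact (two_primes_false hG Nat.prime_two hq (i := a + 2) (j := b) (by rw [hcard, pow_add]; ring)).elim
  rcases eq_or_ne q 2 with rfl | hq2
  · exact (two_primes_false hG Nat.prime_two hp (i := b + 2) (j := a) (by rw [hcard, pow_add]; ring)).elim
  have hodd : Odd (p ^ a * q ^ b) := (hp.odd_of_ne_two hp2).pow.mul (hq.odd_of_ne_two hq2).pow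
  obtain ⟨k, hk⟩ := hodd
  have h8 : ¬ 8 ∣ Nat.card G := fun h => by rw [hcard, mul_assoc, hk] at h; omega
  obtain ⟨T⟩ := (inferInstance : Nonempty (Sylow 2 G))
  obtain ⟨hK, -⟩ := Agent.S0992.result hG ⟨2 * (p ^ a * q ^ b), by rw [hcard]; ring⟩ h8 T
  have h3 : 3 ∣ Nat.card G := by
    by_contra h3
    obtain ⟨P, N, hN, hc⟩ := Agent.S0084.result T hK h3
    have hP4 : Nat.card (P : Subgroup G) = 4 := by
      rw [P.card_eq_multiplicity, ← T.card_eq_multiplicity, hK.card_four]
    have h := hc.card_mul_card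
    rcases IsSimpleGroup.eq_bot_or_eq_top_of_normal N hN with h' | h' <;> subst h'
    · rw [Subgroup.card_bot, one_mul, hP4] at h
      exact two_primes_false hG Nat.prime_two Nat.prime_two (i := 2) (j := 0) (by rw [← h]; norm_num)
    · rw [Subgroup.card_top, hP4] at h
      have := Nat.card_pos (α := G)
      omega
  rw [hcard, mul_assoc] at h3
  rcases Nat.prime_three.dvd_mul.1 h3 with h | h
  · norm_num at h
  have key : ∀ r i j : ℕ, r.Prime → Nat.card G = 4 * (3 ^ i * r ^ j) →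
      Nonempty (G ≃* alternatingGroup (Fin 5)) := by
    intro r i j hr hc
    have hr5 : 5 ≤ r := by
      rcases Nat.lt_or_ge r 5 with h | h
      · exfalso
        have := hr.two_le
        interval_cases r
        · exact two_primes_false hG Nat.prime_two Nat.prime_three (i := j + 2) (j := i)
            (by rw [hc, pow_add]; ring)
        · exact two_primes_false hG Nat.prime_two Nat.prime_three (i := 2) (j := i + j)
            (by rw [hc, pow_add]; ring)
        · norm_num at hr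
      · exact h
    exact Small.equiv_alternating_five (card_of_four hG hr hr5 hc)
  rcases Nat.prime_three.dvd_mul.1 h with h | h <;>
    have h := Nat.prime_three.dvd_of_dvd_pow h
  · obtain rfl := (Nat.prime_dvd_prime_iff_eq Nat.prime_three hp).1 h
    exact key q a b hq (by rw [hcard]; ring)
  · obtain rfl := (Nat.prime_dvd_prime_iff_eq Nat.prime_three hq).1 h
    exact key p b a hp (by rw [hcard]; ring)

end CfsgLib.CharsMore.SmallTriple
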